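import Groth.Agent.Lib.FunFld.WeilRecip
import Groth.Agent.Lib.FunFld.Approx
import Groth.Agent.Lib.CurveRR.FiniteField
import Groth.Prelude.Def_W4bk6serrecg25LocSym
import Mathlib.AlgebraicGeometry.AlgClosed.Basic

/-!
Rational points of a smooth proper curve over an algebraically closed field as places of its function field.
-/

set_option autoImplicit false
set_option linter.style.haveILetI false
set_option linter.unusedSectionVars false

universe u

open CategoryTheory AlgebraicGeometry WithZero
open _root_.FunFld (Place IsFunctionField)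
open GrothLib.FunFld (val)
open GrothLib.FunFld.WeilRecip (IsVal)

namespace GrothLib.LocSymB

variable {k : Type u} [Field k] [IsAlgClosed k] {X : Scheme.{u}} [IsIntegral X]
  [X.Over (Spec (CommRingCat.of k))] [GrothLib.CurveRR.RegCurve X] [IsProper (X ↘ Spec (CommRingCat.of k))]

local notation "cX" => (X ↘ Spec (CommRingCat.of k))

/-- Rational points are the closed points. -/
noncomputable def ptEquiv : LocSym.Pt cX ≃ CurveRR.CP X :=
  (pointEquivClosedPoint cX).trans (Equiv.subtypeEquivRight fun x => CurveRR.isClosed_iff_ne_genericPoint k x)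

/-- The place of a rational point. -/
noncomputable def plEquiv : LocSym.Pt cX ≃ Place k X.functionField :=
  ptEquiv.trans (CurveRR.placeEquiv k)

/-- The place of a rational point. -/
noncomputable abbrev pl (x : LocSym.Pt cX) : Place k X.functionField := plEquiv x

theorem isFF : IsFunctionField k X.functionField :=
  CurveRR.isFunctionField k (CurveRR.finrank_H0_structure_eq_one k)

theorem constFun_eq (a : k) : LocSym.constFun cX a = algebraMap k X.functionField a := rfl

theorem ord_pl (x : LocSym.Pt cX) (g : X.functionField) : x.ord g = (pl x).ord g := by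
  haveI : IsDiscreteValuationRing (X.presheaf.stalk x.pt) := CurveRR.RegCurve.dvr x.pt (ptEquiv x).2
  haveI : Ring.KrullDimLE 1 (X.presheaf.stalk x.pt) := inferInstance
  rw [LocSym.Pt.ord, CycAlg.ordFrac, dif_pos ⟨inferInstance, inferInstance, inferInstance, inferInstance⟩]
  rcases eq_or_ne g 0 with rfl | hg
  · rw [map_zero, GrothLib.FunFld.ord_zero]; rfl
  rw [Ring.ordFrac_eq_valuation_inv, show (IsDiscreteValuationRing.maximalIdeal (X.presheaf.stalk x.pt)).valuation
        X.functionField g = WithZero.exp (-(pl x).ord g) from GrothLib.FunFld.val_eq (pl x) hg,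
      ← WithZero.exp_neg, neg_neg]
  rfl

theorem hasValueAt_iff (x : LocSym.Pt cX) (g : X.functionField) (a : k) :
    LocSym.HasValueAt x g a ↔ IsVal (pl x) g a := by
  rw [LocSym.HasValueAt, constFun_eq, ord_pl, IsVal]
  rcases eq_or_ne (g - algebraMap k _ a) 0 with h | h
  · simp [sub_eq_zero.1 h]
  · rw [GrothLib.FunFld.val_lt_one_iff _ h]
    exact or_iff_right fun e => h (sub_eq_zero.2 e)

theorem cong1At_iff (m : LocSym.Pt cX →₀ ℕ) (x : LocSym.Pt cX) (g : X.functionField) :
    LocSym.Cong1At m x g ↔ val (pl x) (1 - g) ≤ exp (-(m x : ℤ)) := by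
  rw [LocSym.Cong1At, ord_pl]
  rcases eq_or_ne (1 - g) 0 with h | h
  · simp [(sub_eq_zero.1 h).symm]
  · rw [GrothLib.FunFld.val_eq _ h, exp_le_exp, neg_le_neg_iff]
    exact or_iff_right fun e => h (sub_eq_zero.2 e.symm)

theorem finite_ord_ne (g : X.functionField) : {x : LocSym.Pt cX | x.ord g ≠ 0}.Finite := by
  refine ((GrothLib.FunFld.IsFG.finite_support_ord (isFF (X := X) (k := k)).1 g).preimage plEquiv.injective.injOn).subset fun x hx => ?_
  rw [Set.mem_setOf_eq, ord_pl] at hx
  exact hx

theorem exists_value {x : LocSym.Pt cX} {g : X.functionField} (hg : g ≠ 0) (h : x.ord g = 0) :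
    ∃ a : kˣ, LocSym.HasValueAt x g (a : k) := by
  rw [ord_pl] at h
  have h1 : val (pl x) g = 1 := by rw [GrothLib.FunFld.val_eq _ hg, h, neg_zero, exp_zero]
  obtain ⟨a, ha⟩ := GrothLib.FunFld.exists_residue (isFF (X := X) (k := k)).1 (pl x) h1.le
  have ha0 : a ≠ 0 := fun e => by rw [e, map_zero, sub_zero, h1] at ha; exact lt_irrefl _ ha
  exact ⟨Units.mk0 a ha0, (hasValueAt_iff x g a).2 ha⟩

theorem value_unique {x : LocSym.Pt cX} {g : X.functionField} {a b : k} (ha : LocSym.HasValueAt x g a)
    (hb : LocSym.HasValueAt x g b) : a = b :=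
  ((hasValueAt_iff x g a).1 ha).unique ((hasValueAt_iff x g b).1 hb)

theorem ord_eq_zero_of_value {x : LocSym.Pt cX} {g : X.functionField} {a : k} (h : LocSym.HasValueAt x g a)
    (ha : a ≠ 0) : x.ord g = 0 := by
  have h1 := ((hasValueAt_iff x g a).1 h).val_eq_one ha
  rw [ord_pl, GrothLib.FunFld.ord_eq_of_val_eq (pl x) (n := 0) (by rw [h1, exp_zero]), neg_zero]

open Classical in
/-- The value of `g` where it is a unit, `1` elsewhere. -/
noncomputable def valFun (g : X.functionField) (x : LocSym.Pt cX) : kˣ :=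
  if h : g ≠ 0 ∧ x.ord g = 0 then Classical.choose (exists_value h.1 h.2) else 1

theorem valFun_spec {g : X.functionField} (hg : g ≠ 0) {x : LocSym.Pt cX} (h : x.ord g = 0) :
    LocSym.HasValueAt x g (valFun g x : k) := by
  rw [valFun, dif_pos ⟨hg, h⟩]
  exact Classical.choose_spec (exists_value hg h)

theorem valFun_eq {g : X.functionField} (hg : g ≠ 0) {x : LocSym.Pt cX} {a : kˣ}
    (h : LocSym.HasValueAt x g (a : k)) : valFun g x = a :=
  Units.ext (value_unique (valFun_spec hg (ord_eq_zero_of_value h a.ne_zero)) h)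

/-- Weil reciprocity on the rational points. -/
theorem reciprocity {f g : X.functionField} (hf : f ≠ 0) (hg : g ≠ 0)
    (hdisj : ∀ x : LocSym.Pt cX, x.ord f = 0 ∨ x.ord g = 0) (vf vg : LocSym.Pt cX → kˣ)
    (hvf : ∀ x, x.ord f = 0 → LocSym.HasValueAt x f (vf x : k))
    (hvg : ∀ x, x.ord g = 0 → LocSym.HasValueAt x g (vg x : k))
    (A B : Finset (LocSym.Pt cX)) (hA : ∀ x, x.ord g ≠ 0 → x ∈ A) (hB : ∀ x, x.ord f ≠ 0 → x ∈ B) :
    ∏ x ∈ A, vf x ^ x.ord g = ∏ x ∈ B, vg x ^ x.ord f := by
  classical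
  have hp : ∀ P : Place k X.functionField, pl (plEquiv.symm P) = P := plEquiv.apply_symm_apply
  have h := GrothLib.FunFld.WeilRecip.weil_reciprocity (isFF (X := X) (k := k)) hf hg
    (fun P => by simpa [ord_pl, hp] using hdisj (plEquiv.symm P))
    (fun P => (vf (plEquiv.symm P) : k)) (fun P => (vg (plEquiv.symm P) : k))
    (fun P hP => by
      have := hvf (plEquiv.symm P) (by rw [ord_pl, hp]; exact hP)
      rwa [hasValueAt_iff, hp] at this)
    (fun P hP => by
      have := hvg (plEquiv.symm P) (by rw [ord_pl, hp]; exact hP)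
      rwa [hasValueAt_iff, hp] at this)
    (A.map plEquiv.toEmbedding) (B.map plEquiv.toEmbedding)
    (fun P hP => Finset.mem_map_equiv.2 (hA _ (by rwa [ord_pl, hp])))
    (fun P hP => Finset.mem_map_equiv.2 (hB _ (by rwa [ord_pl, hp])))
  rw [Finset.prod_map, Finset.prod_map] at h
  refine Units.ext ?_
  rw [Units.coe_prod, Units.coe_prod]
  refine (Finset.prod_congr rfl fun x _ => ?_).trans (h.trans (Finset.prod_congr rfl fun x _ => ?_)) <;>
    simp [Units.val_zpow_eq_zpow_val, ord_pl]

/-- Reciprocity as finite products over all points. -/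
theorem reciprocity_finprod {f g : X.functionField} (hf : f ≠ 0) (hg : g ≠ 0)
    (hdisj : ∀ x : LocSym.Pt cX, x.ord f = 0 ∨ x.ord g = 0) (vf vg : LocSym.Pt cX → kˣ)
    (hvf : ∀ x, x.ord f = 0 → LocSym.HasValueAt x f (vf x : k))
    (hvg : ∀ x, x.ord g = 0 → LocSym.HasValueAt x g (vg x : k)) :
    ∏ᶠ x : LocSym.Pt cX, vf x ^ x.ord g = ∏ᶠ x : LocSym.Pt cX, vg x ^ x.ord f := by
  have hs : ∀ (v : LocSym.Pt cX → kˣ) (z : X.functionField),
      (Function.mulSupport fun x : LocSym.Pt cX => v x ^ x.ord z) ⊆ ↑(finite_ord_ne (k := k) z).toFinset :=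
    fun v z x hx => by
      rw [Set.Finite.coe_toFinset]
      intro h0
      exact hx (by simp only [h0, zpow_zero])
  rw [finprod_eq_prod_of_mulSupport_subset _ (hs vf g), finprod_eq_prod_of_mulSupport_subset _ (hs vg f)]
  exact reciprocity hf hg hdisj vf vg hvf hvg _ _ (fun x hx => (Set.Finite.mem_toFinset _).2 hx)
    fun x hx => (Set.Finite.mem_toFinset _).2 hx

end GrothLib.LocSymB
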