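import Groth.Agent.Lib.LocSymB.Symbols
import Groth.Prelude.Def_W4c1etcurveeff2PicMod
import Mathlib.RingTheory.RootsOfUnity.AlgebraicallyClosed

/-!
The generalised Picard group of a reduced modulus.
-/

set_option autoImplicit false
set_option linter.style.haveILetI false
set_option linter.unusedSectionVars false

universe u

open CategoryTheory AlgebraicGeometry WithZero W4c1etcurveeff2
open _root_.FunFld (Place IsFunctionField L)
open GrothLib.FunFld (val)
open GrothLib.FunFld.WeilRecip (IsVal)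

namespace GrothLib.LocSymB

variable {k : Type u} [Field k] [IsAlgClosed k] {X : Scheme.{u}} [IsIntegral X]
  [X.Over (Spec (CommRingCat.of k))] [GrothLib.CurveRR.RegCurve X] [IsProper (X ↘ Spec (CommRingCat.of k))]

local notation "cX" => (X ↘ Spec (CommRingCat.of k))

/-- The divisor of a rational function on the rational points. -/
noncomputable def divPt (g : X.functionField) : LocSym.Pt cX →₀ ℤ :=
  Finsupp.ofSupportFinite (fun x : LocSym.Pt cX => x.ord g) (finite_ord_ne g)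

theorem divPt_apply (g : X.functionField) (x : LocSym.Pt cX) : divPt g x = x.ord g := rfl

theorem isDivOf_iff (D : LocSym.Pt cX →₀ ℤ) (g : X.functionField) :
    IsDivOf cX D g ↔ g ≠ 0 ∧ D = divPt g := by
  rw [IsDivOf, Finsupp.ext_iff]; rfl

theorem divPt_mul {g h : X.functionField} (hg : g ≠ 0) (hh : h ≠ 0) :
    (divPt (g * h) : LocSym.Pt cX →₀ ℤ) = divPt g + divPt h :=
  Finsupp.ext fun x => by rw [Finsupp.add_apply, divPt_apply, divPt_apply, divPt_apply, ord_mul x hg hh]

theorem divPt_one : (divPt (1 : X.functionField) : LocSym.Pt cX →₀ ℤ) = 0 :=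
  Finsupp.ext fun x => by rw [divPt_apply, ord_one, Finsupp.coe_zero, Pi.zero_apply]

theorem divPt_inv (g : X.functionField) : (divPt g⁻¹ : LocSym.Pt cX →₀ ℤ) = -divPt g :=
  Finsupp.ext fun x => by rw [Finsupp.neg_apply, divPt_apply, divPt_apply, ord_inv]

theorem exists_of_mem_principal {D : LocSym.Pt cX →₀ ℤ} (hD : D ∈ principal cX) :
    ∃ g : X.functionField, g ≠ 0 ∧ D = divPt g := by
  induction hD using AddSubgroup.closure_induction with
  | mem D h => obtain ⟨g, hg⟩ := h; exact ⟨g, (isDivOf_iff D g).1 hg⟩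
  | zero => exact ⟨1, one_ne_zero, divPt_one.symm⟩
  | add D E _ _ hD hE =>
    obtain ⟨g, hg, rfl⟩ := hD
    obtain ⟨h, hh, rfl⟩ := hE
    exact ⟨g * h, mul_ne_zero hg hh, (divPt_mul hg hh).symm⟩
  | neg D _ hD =>
    obtain ⟨g, hg, rfl⟩ := hD
    exact ⟨g⁻¹, inv_ne_zero hg, (divPt_inv g).symm⟩

theorem exists_of_mem_principalMod {m : LocSym.Pt cX →₀ ℕ} {D : divAway cX m} (hD : D ∈ principalMod cX m) :
    ∃ g : X.functionField, g ≠ 0 ∧ (D : LocSym.Pt cX →₀ ℤ) = divPt g ∧ ∀ x ∈ m.support, CG (pl x) (m x) g := by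
  induction hD using AddSubgroup.closure_induction with
  | mem D h =>
    obtain ⟨g, hg, hc⟩ := h
    exact ⟨g, ((isDivOf_iff _ g).1 hg).1, ((isDivOf_iff _ g).1 hg).2, fun x hx => (cong1At_iff m x g).1 (hc x hx)⟩
  | zero => exact ⟨1, one_ne_zero, divPt_one.symm, fun x _ => CG.one _ _⟩
  | add D E _ _ hD hE =>
    obtain ⟨g, hg, hg', hgc⟩ := hD
    obtain ⟨h, hh, hh', hhc⟩ := hE
    exact ⟨g * h, mul_ne_zero hg hh, by rw [AddSubgroup.coe_add, hg', hh', divPt_mul hg hh],
      fun x hx => (hgc x hx).mul (hhc x hx) (m_pos hx)⟩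
  | neg D _ hD =>
    obtain ⟨g, hg, hg', hgc⟩ := hD
    exact ⟨g⁻¹, inv_ne_zero hg, by rw [NegMemClass.coe_neg, hg', divPt_inv], fun x hx => (hgc x hx).inv (m_pos hx)⟩

theorem const_of_divPt_eq_zero {g : X.functionField} (h : (divPt g : LocSym.Pt cX →₀ ℤ) = 0) :
    g ∈ Set.range (algebraMap k X.functionField) := by
  by_contra hg
  obtain ⟨P, hP⟩ := GrothLib.FunFld.IsFG.exists_pole (isFF (X := X) (k := k)).1 (x := g)
    (GrothLib.FunFld.transcendental_of_not_mem isFF hg)
  have := DFunLike.congr_fun h (plEquiv.symm P)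
  rw [divPt_apply, ord_pl, pl, plEquiv.apply_symm_apply, Finsupp.coe_zero, Pi.zero_apply] at this
  omega

variable (m : LocSym.Pt (X ↘ Spec (CommRingCat.of k)) →₀ ℕ)

/-- `g` takes the values `v` on the modulus. -/
def HasVals (g : X.functionField) (v : LocSym.Pt cX → kˣ) : Prop :=
  g ≠ 0 ∧ ∀ x ∈ m.support, LocSym.HasValueAt x g (v x : k)

theorem HasVals.mem_divAway {g : X.functionField} {v : LocSym.Pt cX → kˣ} (h : HasVals m g v) :
    (divPt g : LocSym.Pt cX →₀ ℤ) ∈ divAway cX m :=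
  fun x hx => ord_eq_zero_of_value (h.2 x hx) (Units.ne_zero _)

theorem HasVals.mul {g h : X.functionField} {v w : LocSym.Pt cX → kˣ} (hg : HasVals m g v) (hh : HasVals m h w) :
    HasVals m (g * h) (v * w) := by
  refine ⟨mul_ne_zero hg.1 hh.1, fun x hx => (hasValueAt_iff _ _ _).2 ?_⟩
  rw [Pi.mul_apply, Units.val_mul]
  exact ((hasValueAt_iff _ _ _).1 (hg.2 x hx)).mul ((hasValueAt_iff _ _ _).1 (hh.2 x hx))

theorem exists_hasVals (v : LocSym.Pt cX → kˣ) : ∃ g, HasVals m g v := by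
  classical
  have h1 : ∀ x : LocSym.Pt cX, ∃ h : X.functionField, h ≠ 0 ∧ IsVal (pl x) h (v x : k) ∧
      ∀ y ∈ m.support, y ≠ x → IsVal (pl y) h (1 : k) := fun x => by
    obtain ⟨h, h0, hx, hy⟩ := exists_aux m.support x (fun _ => 0)
      (g := algebraMap k X.functionField (v x : k)) ((map_ne_zero _).2 (v x).ne_zero)
    refine ⟨h, h0, ?_, fun y hym hne => (hy y hym hne).isVal (Nat.succ_pos _)⟩
    have := (IsVal.const (pl x) (v x : k)).mul (hx.isVal (Nat.succ_pos _))
    rwa [mul_div_cancel₀ _ ((map_ne_zero _).2 (v x).ne_zero), mul_one] at this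
  choose h h0 hv ho using h1
  refine ⟨∏ x ∈ m.support, h x, Finset.prod_ne_zero_iff.2 fun x _ => h0 x, fun y hy => (hasValueAt_iff _ _ _).2 ?_⟩
  have := IsVal.prod (P := pl y) m.support (z := h) (a := fun x => if x = y then (v y : k) else 1) fun x hx => by
    split_ifs with e
    · exact e ▸ hv x
    · exact ho x y hy (Ne.symm e)
  rwa [Finset.prod_ite_eq' m.support y, if_pos hy] at this

variable (hm : ∀ x : LocSym.Pt (X ↘ Spec (CommRingCat.of k)), m x ≤ 1)

include hm in
theorem cls_eq_zero_iff {g : X.functionField} {v : LocSym.Pt cX → kˣ} (hg : HasVals m g v) :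
    (QuotientAddGroup.mk (⟨divPt g, hg.mem_divAway m⟩ : divAway cX m) : PicMod cX m) = 0 ↔
      ∃ a : kˣ, ∀ x ∈ m.support, v x = a := by
  rw [QuotientAddGroup.eq_zero_iff]
  constructor
  · intro h
    obtain ⟨g', hg', hd, hc⟩ := exists_of_mem_principalMod h
    obtain ⟨a, ha⟩ := const_of_divPt_eq_zero (k := k) (g := g / g') (by
      rw [div_eq_mul_inv, divPt_mul hg.1 (inv_ne_zero hg'), divPt_inv, ← hd]; exact add_neg_cancel _)
    have ha0 : a ≠ 0 := fun e => by
      rw [e, map_zero, eq_comm, div_eq_zero_iff] at ha; exact ha.elim hg.1 hg'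
    refine ⟨Units.mk0 a ha0, fun x hx => Units.ext ?_⟩
    refine ((hasValueAt_iff _ _ _).1 (hg.2 x hx)).unique ?_
    have := (IsVal.const (pl x) a).mul ((hc x hx).isVal (m_pos hx))
    rwa [mul_one, ha, div_mul_cancel₀ _ hg'] at this
  · rintro ⟨a, ha⟩
    have hA : algebraMap k X.functionField (a : k) ≠ 0 := (map_ne_zero _).2 a.ne_zero
    refine AddSubgroup.subset_closure ⟨g / algebraMap k _ (a : k), (isDivOf_iff _ _).2 ⟨div_ne_zero hg.1 hA,
      Finsupp.ext fun x => ?_⟩, fun x hx => (cong1At_iff m x _).2 ?_⟩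
    · show x.ord g = x.ord (g / _)
      rw [ord_div x hg.1 hA, ord_const, sub_zero]
    · have h1 := ((hasValueAt_iff _ _ _).1 (hg.2 x hx))
      rw [ha x hx] at h1
      have h2 := h1.mul ((IsVal.const (pl x) (a : k)).inv a.ne_zero)
      rw [← div_eq_mul_inv, mul_inv_cancel₀ a.ne_zero, IsVal, map_one, (val (pl x)).map_sub_swap] at h2
      rw [show (m x : ℤ) = 1 by exact_mod_cast le_antisymm (hm x) (m_pos hx), ← zero_sub (1 : ℤ),
        GrothLib.FunFld.le_exp_sub_one_iff, exp_zero]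
      exact h2

theorem picModToPic_mk (D : divAway cX m) :
    picModToPic cX m (QuotientAddGroup.mk D) = QuotientAddGroup.mk (D : LocSym.Pt cX →₀ ℤ) := rfl

theorem surjective_picModToPic : Function.Surjective (picModToPic cX m) := by
  intro y
  obtain ⟨D, rfl⟩ := QuotientAddGroup.mk_surjective y
  obtain ⟨f, hf⟩ := GrothLib.FunFld.exists_approx_eq (m.support.map plEquiv.toEmbedding)
    (fun _ => (0 : X.functionField)) (fun P => -D (plEquiv.symm P))
  by_cases hS : m.support = ∅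
  · exact ⟨QuotientAddGroup.mk ⟨D, fun x hx => by simp [hS] at hx⟩, rfl⟩
  obtain ⟨s, hs⟩ := Finset.nonempty_iff_ne_empty.2 hS
  have hval : ∀ x ∈ m.support, val (pl x) f = exp (-D x) := fun x hx => by
    have := hf (pl x) (Finset.mem_map_of_mem _ hx)
    rwa [sub_zero, show plEquiv.symm (pl x) = x from plEquiv.symm_apply_apply x] at this
  have hf0 : f ≠ 0 := fun e => exp_ne_zero (by rw [← hval s hs, e, map_zero])
  refine ⟨QuotientAddGroup.mk ⟨D - divPt f, fun x hx => ?_⟩, ?_⟩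
  · rw [Finsupp.sub_apply, divPt_apply, ord_pl, GrothLib.FunFld.ord_eq_of_val_eq _ (hval x hx)]; ring
  · rw [picModToPic_mk, QuotientAddGroup.eq_iff_sub_mem]
    show D - divPt f - D ∈ _
    rw [sub_sub_cancel_left]
    exact neg_mem (AddSubgroup.subset_closure ⟨f, (isDivOf_iff _ _).2 ⟨hf0, rfl⟩⟩)

theorem exists_of_picModToPic_eq_zero {y : PicMod cX m} (hy : picModToPic cX m y = 0) :
    ∃ (g : X.functionField) (v : LocSym.Pt cX → kˣ) (hg : HasVals m g v),
      y = QuotientAddGroup.mk (⟨divPt g, hg.mem_divAway m⟩ : divAway cX m) := by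
  obtain ⟨⟨D, hD⟩, rfl⟩ := QuotientAddGroup.mk_surjective y
  rw [picModToPic_mk, QuotientAddGroup.eq_zero_iff] at hy
  obtain ⟨g, hg, rfl⟩ := exists_of_mem_principal hy
  exact ⟨g, valFun g, ⟨hg, fun x hx => valFun_spec hg (hD x hx)⟩, rfl⟩

/-- The class of values on the modulus. -/
noncomputable def clsOf (v : LocSym.Pt cX → kˣ) : PicMod cX m :=
  QuotientAddGroup.mk (⟨divPt (exists_hasVals m v).choose, (exists_hasVals m v).choose_spec.mem_divAway m⟩ : divAway cX m)

include hm in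
theorem mk_eq_clsOf {g : X.functionField} {v : LocSym.Pt cX → kˣ} (hg : HasVals m g v) :
    (QuotientAddGroup.mk (⟨divPt g, hg.mem_divAway m⟩ : divAway cX m) : PicMod cX m) = clsOf m v := by
  have h := (exists_hasVals m v).choose_spec
  set g' := (exists_hasVals m v).choose
  have hinv : HasVals m g'⁻¹ v⁻¹ := ⟨inv_ne_zero h.1, fun x hx => (hasValueAt_iff _ _ _).2 (by
    rw [Pi.inv_apply, Units.val_inv_eq_inv_val]
    exact ((hasValueAt_iff _ _ _).1 (h.2 x hx)).inv (Units.ne_zero _))⟩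
  have h0 := (cls_eq_zero_iff m hm (hg.mul m hinv)).2 ⟨1, fun x _ => by simp⟩
  rw [clsOf, ← sub_eq_zero, ← h0, ← QuotientAddGroup.mk_sub]
  congr 1
  refine Subtype.ext ?_
  show divPt g - divPt g' = divPt (g * g'⁻¹)
  rw [divPt_mul hg.1 (inv_ne_zero h.1), divPt_inv, sub_eq_add_neg]

include hm in
theorem clsOf_mul (v w : LocSym.Pt cX → kˣ) : clsOf m (v * w) = clsOf m v + clsOf m w := by
  have hv := (exists_hasVals m v).choose_spec
  have hw := (exists_hasVals m w).choose_spec
  rw [← mk_eq_clsOf m hm (hv.mul m hw), clsOf, clsOf, ← QuotientAddGroup.mk_add]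
  congr 1
  exact Subtype.ext (divPt_mul hv.1 hw.1)

include hm in
theorem clsOf_eq_zero_iff (v : LocSym.Pt cX → kˣ) : clsOf m v = 0 ↔ ∃ a : kˣ, ∀ x ∈ m.support, v x = a :=
  cls_eq_zero_iff m hm (exists_hasVals m v).choose_spec

include hm in
theorem nsmul_clsOf (v : LocSym.Pt cX → kˣ) (n : ℕ) : n • clsOf m v = clsOf m (v ^ n) := by
  induction n with
  | zero => rw [zero_nsmul, pow_zero]; exact ((clsOf_eq_zero_iff m hm 1).2 ⟨1, fun x _ => rfl⟩).symm
  | succ n ih => rw [succ_nsmul, pow_succ, clsOf_mul m hm, ih]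

theorem picModToPic_clsOf (v : LocSym.Pt cX → kˣ) : picModToPic cX m (clsOf m v) = 0 := by
  rw [clsOf, picModToPic_mk, QuotientAddGroup.eq_zero_iff]
  exact AddSubgroup.subset_closure ⟨_, (isDivOf_iff _ _).2 ⟨(exists_hasVals m v).choose_spec.1, rfl⟩⟩

include hm in
theorem exists_clsOf_eq {y : PicMod cX m} (hy : picModToPic cX m y = 0) : ∃ v, y = clsOf m v := by
  obtain ⟨g, v, hg, rfl⟩ := exists_of_picModToPic_eq_zero m hy
  exact ⟨v, mk_eq_clsOf m hm hg⟩

include hm in
theorem torsion_lift {n : ℕ} (hn : 1 ≤ n) {y : Pic cX} (hy : n • y = 0) :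
    ∃ x : PicMod cX m, n • x = 0 ∧ picModToPic cX m x = y := by
  obtain ⟨x0, rfl⟩ := surjective_picModToPic m y
  obtain ⟨v, hv⟩ := exists_clsOf_eq m hm (y := n • x0) (by rw [map_nsmul]; exact hy)
  have hroot : ∀ a : kˣ, ∃ b : kˣ, b ^ n = a := fun a => by
    obtain ⟨z, hz⟩ := IsAlgClosed.exists_pow_nat_eq (a : k) (n := n) (by omega)
    have hz0 : z ≠ 0 := fun e => a.ne_zero (by rw [← hz, e, zero_pow (by omega)])
    exact ⟨Units.mk0 z hz0, Units.ext (by simpa using hz)⟩
  choose w hw using fun x => hroot (v x)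
  refine ⟨x0 - clsOf m w, ?_, by rw [map_sub, picModToPic_clsOf, sub_zero]⟩
  rw [nsmul_sub, nsmul_clsOf m hm, hv, show w ^ n = v from funext hw, sub_self]

include hm in
theorem card_ker {n : ℕ} (hn : 1 ≤ n) (hnk : (n : k) ≠ 0) :
    Nat.card {x : PicMod cX m // n • x = 0 ∧ picModToPic cX m x = 0} = n ^ (m.support.card - 1) := by
  classical
  rcases m.support.eq_empty_or_nonempty with hS | ⟨s0, hs0⟩
  · rw [hS, Finset.card_empty, Nat.zero_sub, pow_zero, Nat.card_eq_one_iff_unique]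
    refine ⟨⟨fun a b => Subtype.ext ?_⟩, ⟨⟨0, by simp⟩⟩⟩
    have hz : ∀ a : {x : PicMod cX m // n • x = 0 ∧ picModToPic cX m x = 0}, a.1 = 0 := fun a => by
      obtain ⟨v, hv⟩ := exists_clsOf_eq m hm a.2.2
      rw [hv, (clsOf_eq_zero_iff m hm v).2 ⟨1, fun x hx => by simp [hS] at hx⟩]
    rw [hz a, hz b]
  haveI : NeZero (n : k) := ⟨hnk⟩
  haveI : NeZero n := ⟨by omega⟩
  let S' := (m.support.erase s0)
  let ext : (S' → rootsOfUnity n k) → LocSym.Pt cX → kˣ := fun r x => if hx : x ∈ S' then (r ⟨x, hx⟩ : kˣ) else 1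
  let Φ : (S' → rootsOfUnity n k) → {x : PicMod cX m // n • x = 0 ∧ picModToPic cX m x = 0} := fun r =>
    ⟨clsOf m (ext r), by
      rw [nsmul_clsOf m hm]
      refine (clsOf_eq_zero_iff m hm _).2 ⟨1, fun x _ => ?_⟩
      simp only [Pi.pow_apply, ext]
      split_ifs with hx
      · exact (mem_rootsOfUnity n _).1 (r ⟨x, hx⟩).2
      · exact one_pow n, picModToPic_clsOf m _⟩
  have hΦ : Function.Bijective Φ := by
    constructor
    · intro r r' h
      have h0 : clsOf m (ext r) = clsOf m (ext r') := congrArg Subtype.val h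
      have h1 : clsOf m (ext r' * (ext r / ext r')) = clsOf m (ext r') := by
        rw [mul_div_cancel, h0]
      rw [clsOf_mul m hm, add_eq_left] at h1
      obtain ⟨a, ha⟩ := (clsOf_eq_zero_iff m hm _).1 h1
      have : a = 1 := by
        rw [← ha s0 hs0]
        simp [ext, S']
      subst this
      refine funext fun x => Subtype.ext ?_
      have h2 := ha x.1 (Finset.mem_of_mem_erase x.2)
      rw [Pi.div_apply, div_eq_one] at h2
      have e : ∀ q : S' → rootsOfUnity n k, ext q x.1 = (q x : kˣ) := fun q => dif_pos x.2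
      rwa [e, e] at h2
    · rintro ⟨y, hy, hy'⟩
      obtain ⟨v, rfl⟩ := exists_clsOf_eq m hm hy'
      rw [nsmul_clsOf m hm, clsOf_eq_zero_iff m hm] at hy
      obtain ⟨a, ha⟩ := hy
      let r : S' → rootsOfUnity n k := fun x => ⟨v x.1 / v s0, (mem_rootsOfUnity n _).2 (by
        rw [div_pow, ← Pi.pow_apply, ← Pi.pow_apply, ha x.1 (Finset.mem_of_mem_erase x.2), ha s0 hs0, div_self'])⟩
      refine ⟨r, Subtype.ext ?_⟩
      · show clsOf m (ext r) = clsOf m v
        have e := clsOf_mul m hm (ext r) (v / ext r)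
        rw [mul_div_cancel] at e
        rw [e, left_eq_add, clsOf_eq_zero_iff m hm]
        refine ⟨v s0, fun x hx => ?_⟩
        by_cases hx' : x ∈ S'
        · simp [r, ext, hx', div_div_cancel]
        · rw [show x = s0 from by_contra fun e => hx' (Finset.mem_erase.2 ⟨e, hx⟩)]
          simp [r, ext, S']
  rw [← Nat.card_eq_of_bijective Φ hΦ, Nat.card_fun, HasEnoughRootsOfUnity.natCard_rootsOfUnity k n,
    Nat.card_eq_fintype_card, Fintype.card_coe, Finset.card_erase_of_mem hs0]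

end GrothLib.LocSymB
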